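import Cfsg.Agent.LyC.Rel
import Cfsg.Agent.LyC.L0
import Cfsg.Agent.LyC.L1

set_option autoImplicit false
set_option Elab.async false
set_option maxRecDepth 100000
set_option linter.all false

namespace Cfsg.Agent.LyC
open Cfsg.Agent.CGT

noncomputable def l2_n0 : Net := Net.cons 32 0x47fdffd0 <|
  Net.cons 16 0xa00e0000114a <|
  Net.cons 8 0xb2009000b000d8 <|
  Net.cons 4 0xa04060008000002 <|
  Net.cons 2 0x200000200000002 <|
  Net.cons 1 0x1441100115005554 <|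
  Net.cons 2 0x20011200022102 <|
  Net.cons 4 0xa040e020b050f02 <|
  Net.cons 8 0x56009400b000d8 <|
  Net.cons 16 0xa00e0000194a <|
  Net.cons 32 0x47fdffd0 <|
  Net.nil
noncomputable def l2_n1 : Net := Net.cons 32 0x7da45040 <|
  Net.cons 16 0x3fa400004154 <|
  Net.cons 8 0x38000400a000e8 <|
  Net.cons 4 0x80c0e0c0208060a <|
  Net.cons 2 0x2020020022002 <|
  Net.cons 1 0x5111014145414111 <|
  Net.cons 2 0x2012233202131120 <|
  Net.cons 4 0x800080a02000908 <|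
  Net.cons 8 0x590082002a00c9 <|
  Net.cons 16 0x694300004249 <|
  Net.cons 32 0x77620004 <|
  Net.nil
noncomputable def l2_ns : List Net := [l2_n0, l2_n1, Net.nil, Net.nil, Net.nil, Net.nil, Net.nil, Net.nil, Net.nil, Net.nil]
noncomputable def l2_R : List (List ℕ) := [[0, 0, 0, 0, 0, 0, 0, 0], [2, 2, 2, 2, 2], [0, 2, 0, 2, 0, 2, 0, 2], [1, 1, 3, 0, 0, 2], [1, 3, 0, 2, 1, 3, 0, 2, 1, 3, 0, 2]]
noncomputable def l2_S0 : List (List ℕ) := [[0]]
noncomputable def l2_E : Enum := ⟨l2_ns, l2_R, l2_S0, [], 0⟩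
theorem l2_v : validAll (2 ^ 6) l2_ns = true := by decide +kernel
theorem l2_p0 : holdsB 6 l2_ns l2_R = true := by decide +kernel
theorem l2_p : Holds (lp l2_ns) l2_R := holdsB_sound l2_v l2_p0
theorem l2_f : allL l2_E.Sub (fixN l2_E.ns l2_E.b0) = true := by decide +kernel
theorem l2_r0 : l2_E.run [10, 9, 14, 13, 2, 1, 10, 9, 14, 13, 2, 1, 10, 9, 14, 13, 2, 1, 10, 9, 14, 13, 2, 1, 10, 9, 14, 13, 10, 9, 4, 9, 3, 1, 4108, 5, 12300, 1, 4108, 5, 12300, 1, 4108, 5, 12300, 1, 4108, 5, 8, 1, 4104, 9, 12, 5, 4108, 5, 12300, 1, 8, 1, 12, 5, 16, 5, 4112, 13, 8208, 1, 4, 9, 8, 1, 4104, 9, 4, 9, 12, 5, 4104, 9, 4112, 13, 8208, 1, 4, 9, 8, 1] (1 <<< 0) (List.replicate 5 0) (Enum.done 60 [0, 2]) = true := by decide +kernel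
theorem l2_fin {G : Type*} [Group G] {γ : ℕ → G} (hR : Holds (ext γ) l2_R) {H : Subgroup G}
    (hS : ∀ u ∈ l2_S0, ev (ext γ) u ∈ H) : l2_E.Fin γ H 60 [0, 2] :=
  have hy : l2_E.Hyp γ H := Enum.hyp_of l2_v hR l2_p hS l2_f
  (Enum.fin_of_done hy (Enum.inv_init 5) l2_r0)
noncomputable def l3_n0 : Net := Net.cons 4 0x8 <|
  Net.cons 2 0x2 <|
  Net.cons 1 0x1 <|
  Net.cons 2 0x31 <|
  Net.cons 4 0x4 <|
  Net.nil
noncomputable def l3_ns : List Net := [l3_n0, Net.nil, Net.nil, Net.nil, Net.nil, Net.nil, Net.nil, Net.nil, Net.nil, Net.nil]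
noncomputable def l3_R : List (List ℕ) := [[0, 0, 0, 0, 0, 0, 0, 0]]
noncomputable def l3_S0 : List (List ℕ) := []
noncomputable def l3_E : Enum := ⟨l3_ns, l3_R, l3_S0, [], 0⟩
theorem l3_v : validAll (2 ^ 3) l3_ns = true := by decide +kernel
theorem l3_p0 : holdsB 3 l3_ns l3_R = true := by decide +kernel
theorem l3_p : Holds (lp l3_ns) l3_R := holdsB_sound l3_v l3_p0
theorem l3_f : allL l3_E.Sub (fixN l3_E.ns l3_E.b0) = true := by decide +kernel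
theorem l3_r0 : l3_E.run [2, 1, 6, 5, 2, 1, 6, 5, 2, 1, 6, 5, 2, 1, 0, 1] (1 <<< 0) (List.replicate 3 0) (Enum.done 8 [0]) = true := by decide +kernel
theorem l3_fin {G : Type*} [Group G] {γ : ℕ → G} (hR : Holds (ext γ) l3_R) {H : Subgroup G}
    (hS : ∀ u ∈ l3_S0, ev (ext γ) u ∈ H) : l3_E.Fin γ H 8 [0] :=
  have hy : l3_E.Hyp γ H := Enum.hyp_of l3_v hR l3_p hS l3_f
  (Enum.fin_of_done hy (Enum.inv_init 3) l3_r0)
theorem bd3 {G : Type*} [Group G] {γ : ℕ → G} (hR : Holds (ext γ) RR) : Bd (gp γ [0]) 8 :=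
  Bd.step (l3_fin (hR.subR (by decide +kernel)) (wordsIn_sound γ (L := []) (by decide +kernel))) (Bd.gp_nil γ) (by norm_num)
theorem bd2 {G : Type*} [Group G] {γ : ℕ → G} (hR : Holds (ext γ) RR) : Bd (gp γ [0, 2]) 480 :=
  Bd.step (l2_fin (hR.subR (by decide +kernel)) (wordsIn_sound γ (L := [0]) (by decide +kernel))) (bd3 hR) (by norm_num)
theorem bd1 {G : Type*} [Group G] {γ : ℕ → G} (hR : Holds (ext γ) RR) : Bd (gp γ [0, 2, 4, 10, 12, 14, 16, 18]) 1500000 :=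
  Bd.step (l1_fin (hR.subR (by decide +kernel)) (wordsIn_sound γ (L := [0, 2]) (by decide +kernel))) (bd2 hR) (by norm_num)
theorem bd0 {G : Type*} [Group G] {γ : ℕ → G} (hR : Holds (ext γ) RR) : Bd (gp γ [0, 2, 4, 6, 8, 10, 12, 14, 16, 18]) 5859000000 :=
  Bd.step (l0_fin (hR.subR (by decide +kernel)) (wordsIn_sound γ (L := [0, 2, 4, 10, 12, 14, 16, 18]) (by decide +kernel))) (bd1 hR) (by norm_num)

end Cfsg.Agent.LyC
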