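import Cfsg.Agent.Mult.Slices
import Cfsg.Agent.LyC.Tabs

set_option autoImplicit false
set_option Elab.async false
set_option maxRecDepth 100000
set_option linter.all false

namespace Cfsg.Agent.LyC
open Cfsg.Agent.CGT

open Cfsg.Agent.Mult

noncomputable def u2_D : PC := ⟨2, 6, 2, 18,
  [[0x400, 0x44, 0x50, 0x440, 0x500, 0x400], [0, 0x40, 0x110, 0x40, 0x500, 0x400], [0, 0, 0x140, 0x440, 0x500, 0x400], [0, 0, 0, 0x400, 0x100, 0x400], [0, 0, 0, 0, 0, 0x400], [0, 0, 0, 0, 0, 0]],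
  [0xff, 0x33, 0xf, 0, 0, 0],
  [(6, 1, 0x41), (6, 0x14, 0x101), (6, 0x40, 0x40), (6, 0x400, 0x400), (7, 1, 0x441), (7, 0x40, 0x401), (7, 0x400, 0x400), (8, 0x14, 0x505), (8, 0x100, 0x400)], 13, 0x300000105020400000000⟩
noncomputable def u2_ds : List (List ℕ) := [[14, 1, 6, 17, 1, 12, 2, 7, 8, 17, 5], [4, 7, 14, 17, 1, 18, 7, 4, 18, 7, 16, 5], [14, 10, 1, 17, 4, 6, 15, 5, 0, 3, 1, 2, 2], [19, 1, 7, 16, 7, 8, 6, 17, 4, 1, 1, 2], [16, 12, 0, 6, 13, 15, 16, 0, 7, 13, 17], [6, 6, 13, 16, 8, 13, 7, 13, 2, 13, 17], [14, 1, 8, 6, 1, 19, 5, 5, 7, 13], [16, 6, 14, 1, 8, 6, 16, 1, 15, 8, 14], [2, 8, 0, 12, 0, 7, 17, 7, 15, 4]]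
noncomputable def u2_c : Mult.Cert := ⟨29, 16, [[], [], [], [1], [8], [3]],
  [],
  [[0xa00c, 0, 0x19120, 0, 0x335c0, 0x80000], [0, 0x976d3, 0, 0x40000, 0x172c2, 0x10000], [0, 0, 0xa8fcf, 0x530c0, 0x550c0, 0x2a800], [0, 0, 0, 0x60400, 0x1b000, 0x20000], [0, 0, 0, 0, 0xa002, 0x8000], [0, 0, 0, 0, 0, 0xa000]]⟩
theorem u2_all : allB u2_D u2_c [.assoc 1 1 1, .assoc 4 4 4, .assoc 0x40 0x40 0x40, .assoc 0x40 0x40 4, .assoc 0x100 0x40 0x40, .assoc 0x10 0x10 0x10, .assoc 0x100 0x100 1, .assoc 0x100 4 4, .assoc 0x40 0x40 0x10, .assoc 4 4 1, .assoc 0x10 0x10 4, .assoc 0x10 0x10 1, .fus 6 [2, 2] [3], .fus 6 [2, 1] [1, 2, 3], .fus 6 [1, 0] [0, 1], .fus 6 [1, 1] [], .fus 7 [5, 5] [6], .fus 7 [4, 4] [6], .fus 8 [8, 8] [], .fus 8 [7, 7] []] 15 m_ts u2_ds [4, 3, 2, 0] [(3213, [0x10]), (11823, [4]), (430, [0x400, 0x40]), (123, [0x451]), (0, [0x100])]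 = true := by decide +kernel
theorem u2_pb {G : Type*} [Group G] [Finite G] {φ : G →* Equiv.Perm ℕ} {γ : ℕ → G}
    (M : Model φ γ 15 m_ns m_ts) (hB : IsBase φ ⊤ [4, 3, 2, 0]) (hN : Nat.card G = 5859000000) : PBound G 2 0 :=
  pbound_all M hB hN (by decide +kernel) (by decide +kernel) u2_all

end Cfsg.Agent.LyC
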