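import Cfsg.Agent.Mult.Slices
import Cfsg.Agent.LyC.Tabs

set_option autoImplicit false
set_option Elab.async false
set_option maxRecDepth 100000
set_option linter.all false

namespace Cfsg.Agent.LyC
open Cfsg.Agent.CGT

open Cfsg.Agent.Mult

noncomputable def u5_D : PC := ⟨5, 6, 3, 29,
  [[0, 0x48, 0x240, 0x1200, 0x1000, 0x8000], [0, 0x8000, 0x23640, 0x23200, 0x9000, 0x8000], [0, 0, 0, 0x20200, 0x1000, 0x8000], [0, 0, 0, 0, 0x1000, 0x8000], [0, 0, 0, 0, 0, 0x8000], [0, 0, 0, 0, 0, 0]],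
  [0x1ff, 0x1ff, 7, 0, 0, 0],
  [(6, 1, 0x14204), (6, 8, 0x8451), (6, 0x1000, 0x3000), (6, 0x8000, 0x8000), (7, 0x19, 0x2914), (7, 0x40, 0x19200), (7, 0x200, 0x1124a), (7, 0x8000, 0x8000)], 19, 0x20301030201040305020001040500040005⟩
noncomputable def u5_ds : List (List ℕ) := [[1, 1, 16, 5, 12, 14, 3, 7, 5, 15, 2], [15, 15, 4, 15, 6, 12, 1, 18, 14], [1, 15, 6, 16, 18, 7, 14, 0], [0, 3, 0, 5, 14, 12, 18, 8, 13, 7, 14, 16], [17, 15, 13, 8, 6, 18, 8, 2, 0], [16, 1, 14, 4, 7, 16, 14, 0, 4], [6, 5, 19, 7, 4, 19, 7, 17, 5, 17], [5, 12, 15, 12, 2, 7, 4, 14, 12, 12]]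
noncomputable def u5_c : Mult.Cert := ⟨1276, 26, [[], [], [1], [2], [3], [10]],
  [],
  [[0xbb61e11, 0, 0, 0, 0x2a303fe5788, 0x26ddf1de36e], [0, 0x5457efdbc90, 0x100068c96b00, 0x1f11990b26f, 0, 0x3782dace9d9], [0, 0, 0x261cb32535a, 0x315da3d1b87, 0x274b158b966, 0x1c6bf52634], [0, 0, 0, 0x1d208a83, 0x2c68af0bb14, 0x5af3107a4], [0, 0, 0, 0, 0x3a352944, 0x8e1bc9bf04], [0, 0, 0, 0, 0, 0xba43b74]]⟩
theorem u5_all : allB u5_D u5_c [.assoc 8 0x20 8, .assoc 0x1000 0x40 1, .assoc 0x1000 0x200 0x40, .assoc 0x8000 8 1, .assoc 0x8000 0x40 1, .assoc 0x1000 8 1, .assoc 0x800 0x200 1, .assoc 0x4000 0x1000 8, .assoc 0x200 0x40 1, .assoc 0x200 8 1, .assoc 0x40 4 1, .assoc 0x40 8 1, .assoc 8 4 1, .fus 6 [2, 0] [0, 2], .fus 6 [2, 1] [1, 2, 3], .fus 6 [0, 0, 0, 0, 0] [], .fus 6 [1, 1, 1, 1, 1] [3], .fus 7 [6, 5] [5, 6, 7, 7, 7, 7], .fus 7 [5, 4] [4, 5,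 7, 7]] 15 m_ts u5_ds [4, 3, 2, 0] [(5532, [8]), (92, [0x1000, 0x200]), (106, [0x8000, 0x1440]), (0, [0x9859])] = true := by decide +kernel
theorem u5_pb {G : Type*} [Group G] [Finite G] {φ : G →* Equiv.Perm ℕ} {γ : ℕ → G}
    (M : Model φ γ 15 m_ns m_ts) (hB : IsBase φ ⊤ [4, 3, 2, 0]) (hN : Nat.card G = 5859000000) : PBound G 5 0 :=
  pbound_all M hB hN (by decide +kernel) (by decide +kernel) u5_all

end Cfsg.Agent.LyC
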