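import Cfsg.Agent.LyC.Dce
import Cfsg.Agent.LyC.Cen
import Cfsg.Prelude.Def_Spor_Ly
import Cfsg.Agent.LyC.Mul2
import Cfsg.Agent.LyC.Mul3
import Cfsg.Agent.LyC.Mul5

set_option autoImplicit false
set_option Elab.async false
set_option maxRecDepth 100000
set_option linter.all false

namespace Cfsg.Agent.LyC
open Cfsg.Agent.CGT

open Cfsg.Agent.Mult

noncomputable def gens : List Cfsg.Spor.Ly.Gen := [.a, .b, .c, .d, .z, .e, .a1, .a2, .a3, .a4, .c1, .c2, .c3, .c4, .c5, .u, .x23, .x24, .x25, .x29, .x47, .x96, .x129, .x162, .x163, .x164, .x165, .x166, .x167, .x168, .x169, .x364, .x365, .x366, .x367, .x368, .x369, .x370, .x371]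
theorem gens_all : ∀ x, x ∈ gens := by intro x; cases x <;> decide
theorem gens_nodup : gens.Nodup := by decide
/-- the generators -/
noncomputable abbrev δ : ℕ → Cfsg.Spor.Ly := pγ gens Cfsg.Spor.Ly.edges Cfsg.Spor.Ly.extra
noncomputable def DR : List (List ℕ) := [[0, 0, 0, 0, 0, 0, 0, 0], [2, 2, 2, 2, 2], [0, 2, 0, 2, 0, 2, 0, 2], [1, 1, 3, 0, 0, 2], [1, 3, 0, 2, 1, 3, 0, 2, 1, 3, 0, 2], [20, 5], [22, 1, 5, 0], [24, 3, 5, 2], [26, 2, 5, 3], [28, 23, 21, 22, 20], [20, 20, 20, 20, 20], [28, 28, 28, 28, 28], [21, 29, 20, 28], [23, 29, 22, 28], [25, 29, 24, 28], [27, 29, 26, 28], [21, 25, 20, 24, 28, 28], [21, 27, 20, 26, 29, 29], [23, 25, 22, 24, 28], [23, 27, 22, 26], [25, 27, 24, 26, 28], [1, 22, 0, 20, 20], [1, 24, 0, 27, 21, 24, 24], [1, 26, 0, 27, 21, 27, 24, 22,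 21], [1, 28, 0, 29, 29], [3, 22, 2, 26, 20, 26, 25, 23], [3, 24, 2, 24, 24, 27, 21, 21], [3, 28, 2, 29], [10, 7, 21, 7, 2, 1, 3, 21, 7, 1, 21, 0, 21, 1, 20, 0, 2, 2], [10, 10], [11, 20, 10, 20, 3, 25, 3], [11, 24, 10, 0, 26, 20, 23, 1, 3, 3], [11, 26, 10, 27, 24, 3, 3], [11, 28, 10, 26, 21, 24, 21], [10, 0, 0, 10, 26, 29, 21, 1, 2, 1, 3, 3, 1], [11, 2, 10, 26, 26, 24, 21], [10, 0, 2, 2, 0, 3, 0, 10, 26, 29, 21, 1, 1], [10, 22, 10, 23, 10, 22, 27, 0, 24, 0, 0, 0], [6, 11, 3, 22, 1, 11, 1, 11, 1, 28, 26, 20, 2, 0, 3, 3, 1], [6, 6, 1, 1, 1, 1], [3, 7, 2, 6], [7, 0, 6, 1, 1, 1], [6, 28, 6, 28, 6, 28, 6, 28, 6, 28], [6, 28, 6, 29, 6, 28, 1, 1], [12, 1], [14, 2, 1, 3], [16, 2, 2, 1, 3, 3], [18, 3, 3, 1, 2, 2], [30, 1, 1], [32, 7], [34, 6], [36, 3, 5, 0, 3, 3, 4, 7, 4, 0, 5,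 1, 4, 3, 3, 0, 2, 0, 3, 3], [38, 5, 3, 5, 7, 2, 2, 5, 7, 2, 5, 3, 5, 1, 4, 3, 3, 0, 3, 3, 0, 3, 1], [40, 6, 4, 3, 0, 4, 0, 6, 4], [42, 7, 3], [44, 2, 6], [46, 1, 3, 4, 1, 2, 4, 3, 0, 2, 0], [48, 3, 5, 3, 0, 5, 1, 2, 2], [50, 1, 3, 1, 5, 0, 2, 0], [52, 3, 1, 2, 5, 3, 0, 2], [54, 4, 2, 2, 5, 1, 3, 5, 2, 0, 3, 3], [56, 0, 0, 0], [58, 0, 0, 2, 0, 3], [60, 0, 2, 2, 1, 3, 3, 1], [62, 2, 1, 3, 1, 2, 1, 4, 0, 2, 4, 3, 6, 4, 3, 0, 4, 2, 7, 0], [64, 6, 2, 5, 0, 5, 1, 5, 7, 4, 4, 0, 3, 4, 3, 5, 0, 2, 2, 1], [66, 5, 3, 5, 7, 2, 2, 5, 7, 3, 5, 3, 3, 5, 2, 0, 2, 2, 0, 2, 1, 3], [68, 2, 0, 3, 1, 3, 3, 1, 3, 4, 2, 2, 4, 2, 6, 4, 3, 3, 6, 4, 2, 4], [70, 2, 2, 0, 2, 4, 2, 2, 5, 1, 4, 0, 6, 4, 1, 2, 4, 1, 6, 4, 0], [72, 2, 1, 2, 2, 1, 2, 4, 2, 0, 3, 6, 4, 2, 0, 3, 6, 4, 0], [74, 0, 3,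 0, 2, 2, 0, 5, 0, 2, 1, 6, 4, 0, 5, 3, 5, 1, 6], [76, 3, 0, 2, 0, 2, 5, 1, 5, 0, 5, 6, 4, 3, 5, 0, 4], [9, 20, 8, 47], [9, 22, 8, 49], [9, 24, 8, 51], [9, 26, 8, 53], [9, 28, 8, 55], [9, 12, 8, 57], [9, 14, 8, 59], [9, 16, 8, 61], [8, 8, 31], [18, 8, 18, 8, 18, 8, 30], [40, 8, 62, 8, 70, 8], [9, 34, 9, 72, 8, 32, 8, 38], [8, 66, 8, 64, 9, 68, 9, 74], [8, 42, 8, 36, 9, 44, 9, 76]]
theorem DR_eq : defR gens Cfsg.Spor.Ly.edges Cfsg.Spor.Ly.extra = DR := by decide +kernel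
noncomputable def Wd : List (List ℕ) := [[2], [4], [6], [8], [0], [10], [2], [4, 2, 5], [4, 4, 2, 5, 5], [5, 5, 2, 4, 4], [12], [14], [16], [18], [20], [2, 2], [8], [9], [4, 4, 3, 5, 3, 4, 4, 7, 2, 6, 3, 7, 8, 7, 4, 4, 3, 6, 4], [2, 4, 3, 4, 4, 3, 4, 4, 7, 2, 6, 4, 6, 5, 8, 6, 5, 5, 8, 6, 4, 6], [7, 9, 3, 7, 3, 4, 7, 9], [4, 8], [9, 5], [3, 5, 3, 4, 7, 5, 2, 7, 4, 2], [5, 5, 2, 6, 3, 4, 6, 4], [3, 5, 3, 6, 2, 4, 2], [5, 3, 4, 6, 5, 2, 4], [4, 4, 3, 5, 6, 4, 2, 6, 5, 5, 7], [3, 3, 3], [4, 3, 5, 3, 3], [2, 4, 4, 2, 5, 5, 3], [3, 8, 5, 7, 3, 4, 7, 9, 4, 7, 5, 3, 7, 2, 5, 2, 4, 2, 5], [2, 5, 5, 3, 6, 4, 7, 4, 3, 7, 7, 8, 6, 2, 6, 3, 6, 5, 9], [4, 2, 5, 3, 5, 5, 3, 5, 6, 4, 4, 6, 4, 8, 6, 5, 5, 8, 6, 4, 6], [7, 5, 7, 9, 4, 4, 7, 9, 5, 7, 5, 5, 7, 4, 2, 4, 4, 2, 4, 3, 5],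 [3, 7, 9, 2, 7, 5, 2, 7, 9, 3, 7, 2, 6, 5, 5, 7, 5, 3, 5, 5], [3, 7, 9, 4, 3, 5, 7, 9, 4, 3, 5, 7, 5, 2, 5, 5, 2, 5], [9, 2, 6, 4, 6, 3, 7, 9, 2, 5, 3, 6, 3, 5, 5, 3, 4, 3], [7, 3, 6, 4, 7, 9, 6, 3, 6, 2, 6, 5, 3, 5, 3, 4]]
noncomputable def ZR : List (List ℕ) := [[1, 12, 0, 3, 5, 6, 3, 4, 6, 5, 2, 4, 2], [1, 14, 0, 5, 7, 5, 2, 7, 3, 4, 4], [1, 16, 0, 3, 5, 3, 7, 2, 4, 2], [1, 18, 0, 5, 3, 4, 7, 5, 2, 4], [1, 20, 0, 6, 4, 4, 7, 3, 5, 7, 4, 2, 5, 5], [1, 2, 0, 2, 2, 2], [1, 4, 2, 5, 0, 2, 2, 4, 2, 5], [1, 4, 4, 2, 5, 5, 0, 2, 4, 4, 3, 5, 5, 3], [0, 0, 3, 3], [5, 5, 2, 4, 4, 0, 5, 5, 2, 4, 4, 0, 5, 5, 2, 4, 4, 0, 2, 2], [7, 9, 3, 7, 3, 4, 7, 9, 0, 3, 8, 5, 7, 3, 4, 7, 9, 4, 7, 5, 3, 7, 2, 5, 2, 4, 2, 5, 0, 3, 7, 9, 2, 7, 5, 2, 7, 9, 3, 7, 2, 6, 5, 5, 7, 5, 3, 5, 5, 0],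 [1, 9, 1, 3, 7, 9, 4, 3, 5, 7, 9, 4, 3, 5, 7, 5, 2, 5, 5, 2, 5, 0, 8, 0, 2, 4, 3, 4, 4, 3, 4, 4, 7, 2, 6, 4, 6, 5, 8, 6, 5, 5, 8, 6, 4, 6], [0, 4, 2, 5, 3, 5, 5, 3, 5, 6, 4, 4, 6, 4, 8, 6, 5, 5, 8, 6, 4, 6, 0, 2, 5, 5, 3, 6, 4, 7, 4, 3, 7, 7, 8, 6, 2, 6, 3, 6, 5, 9, 1, 7, 5, 7, 9, 4, 4, 7, 9, 5, 7, 5, 5, 7, 4, 2, 4, 4, 2, 4, 3, 5, 1, 9, 2, 6, 4, 6, 3, 7, 9, 2, 5, 3, 6, 3, 5, 5, 3, 4, 3], [0, 4, 8, 0, 4, 4, 3, 5, 3, 4, 4, 7, 2, 6, 3, 7, 8, 7, 4, 4, 3, 6, 4, 1, 9, 5, 1, 7, 3, 6, 4, 7, 9, 6, 3, 6, 2, 6, 5, 3, 5, 3, 4]]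
theorem hD : Holds (ext δ) DR := DR_eq ▸ pres_holds gens_all _ _
theorem hP : presB DR 39 (4 :: [0, 1, 2, 3, 5, 10, 11, 12, 13, 14]) Wd = true := by decide +kernel
theorem hH : dd.hypB ZR 8 [0, 1, 2, 3, 4, 5, 6, 7] [(9, 5), (10, 8), (11, 0), (12, 0), (13, 0), (8, 0)] = true := by decide +kernel
theorem rho : ∃ ρ : K →* Cfsg.Spor.Ly, zt ρ γ (δ 4) = wg δ ((4 :: [0, 1, 2, 3, 5, 10, 11, 12, 13, 14]).map fun i => [Nat.mul 2 i]) :=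
  pres_rho rfl (hD.relsFrom (I := []) (by decide +kernel))
theorem closedK : Cover.Closed K := by
  obtain ⟨φ, C⟩ := cert
  haveI := C.fin
  exact Cover.closed_of_mult (triv_of_bounds card_eq [(2, 6), (3, 3), (5, 6), (7, 1), (31, 1)] (by decide +kernel) (by decide +kernel) (by
    simp only [List.forall_mem_cons, List.not_mem_nil, IsEmpty.forall_iff, implies_true, and_true]
    exact ⟨.inr (u2_pb C.M C.base card_eq),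
      .inr (u3_pb C.M C.base card_eq),
      .inr (u5_pb C.M C.base card_eq),
      .inl (by decide),
      .inl (by decide)⟩))
theorem mult : Cfsg.HasCyclicSchurMultiplier Cfsg.Spor.Ly 1 := by
  obtain ⟨φ, C⟩ := cert
  haveI := C.fin
  obtain ⟨ρ, hρ⟩ := rho
  have hW := pres_wd hD (fun j hj => by rw [δ, pγ, List.getElem?_eq_none (show gens.length ≤ j from hj)]) hP hρ
  have hZ : Holds (ext (zt ρ γ (δ 4))) ZR := pres_zr hD hW (by decide +kernel)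
  have hg := pres_gen_zt (pres_gen gens_all _ _ (L := (List.range 39).map (2 * ·)) (by decide +kernel)) hW
  have hy : dd.Hyp (Dce.ctx0.{0, 0, 0} φ γ ρ (δ 4) ρ.range) m_ns := Dce.hyp0 (D := dd) (H := ρ.range) C.M C.base (by decide +kernel) (fun h => ⟨h, rfl⟩) hZ hH
  have hA : ∀ a, (Dce.ctx0.{0, 0, 0} φ γ ρ (δ 4) ρ.range).ι a ∈ ρ.range := fun _ => ρ.range.one_mem
  haveI : Finite (Dce.ctx0.{0, 0, 0} φ γ ρ (δ 4) ρ.range).H := Finite.of_surjective _ ρ.rangeRestrict_surjective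
  haveI : Finite Cfsg.Spor.Ly := Dce.finite_of_inX fun g =>
    Dce.all_inX hy hA (by decide) (dd_all hy hA (stab C) C.orbit0.2) hg.ge (Subgroup.mem_top g)
  obtain ⟨a, u, v, h1, h2, h3, h4⟩ := a_data C
  exact (Dce.closed_of (D := dd) C.M C.base (by decide +kernel) hZ hH dd_t (by decide +kernel)
    (fun hy => dd_up hy) (section_of closedK h1 (by norm_num) h2 h3 h4 ρ)
    (pres_hlift gens_all gens_nodup C.M C.base (by decide +kernel) C.gen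
      (bk := 4 :: [0, 1, 2, 3, 5, 10, 11, 12, 13, 14])
      (fun j hj => pg_one _ (Nat.le_of_succ_le_succ hj)) (DR_eq ▸ hP) (by decide) hρ
      (DR_eq ▸ (by decide +kernel))) hg).mult

end Cfsg.Agent.LyC
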